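import Cfsg.Agent.Lib.SDKeystone.CoreLocal
import Cfsg.Agent.Lib.Transfer.IsolatedSylow

/-!
# Semidihedral / wreathed keystone: closing the core step (helper26)

`notes/sd_wreathed_budget_helper82.md`, section 2 with audit (c). The degree budget enters through `hforced`
(its consequence for an odd `Y` over `O` normalised by `C(z)`) and `hκ`; the structure of `C(t)/O(C t)` through
`hcent`.

* `CoreSetting.exists_overgroup` : `N(X) = Y C(z)` with `Y` odd, for a normal `X ≤ O` of `C(z)` moved by `t`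
* `CoreSetting.core_centralized` : `t` centralises `O(C(z))`
-/

set_option autoImplicit false

namespace Cfsg.Agent.SDKeystone

open Subgroup

universe u

variable {G : Type u} [Group G] [Finite G] {z t : G} {O : Subgroup G}

namespace CoreSetting

variable (S : CoreSetting z t O)
include S

theorem zz : z * z = 1 := by rw [← pow_two, ← S.z2, pow_orderOf_eq_one]

/-- If `X ≤ O` is normal in `C(z)` and moved by `t`, then `z` is isolated in `N(X)`, so `N(X) = Y C(z)`. -/
theorem exists_overgroup (hmax : ∀ N : Subgroup G, N ≤ centralizer ({z} : Set G) → Odd (Nat.card N) →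
      centralizer ({z} : Set G) ≤ normalizer (N : Set G) → N ≤ O)
    {X : Subgroup G} (hXO : X ≤ O) (hXC : centralizer ({z} : Set G) ≤ normalizer (X : Set G))
    (hXt : ¬ X ≤ centralizer ({t} : Set G)) :
    ∃ Y : Subgroup G, Odd (Nat.card Y) ∧ centralizer ({z} : Set G) ≤ normalizer (Y : Set G) ∧
      Y ⊓ centralizer ({z} : Set G) = O ∧ Y ≤ normalizer (X : Set G) ∧
      normalizer (X : Set G) ≤ Y ⊔ centralizer ({z} : Set G) := by
  classical
  haveI : Fact (Nat.Prime 2) := ⟨Nat.prime_two⟩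
  set M := normalizer (X : Set G) with hM
  set C := centralizer ({z} : Set G) with hC
  have hzC : z ∈ C := mem_centralizer_singleton_iff.2 rfl
  have hzM : z ∈ M := hXC hzC
  have hiso : Cfsg.IsIsolatedInvolution (⟨z, hzM⟩ : M) := by
    refine ⟨by rw [← Subgroup.orderOf_coe]; exact S.z2, fun g hg => Subtype.ext ?_⟩
    show (g : G) * z * (g : G)⁻¹ = z
    by_contra hne
    set w := (g : G) * z * (g : G)⁻¹ with hw
    have hwz : Commute w z := by
      have := congrArg Subtype.val hg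
      exact (show Commute _ _ from this).symm
    have hw2 : orderOf w = 2 := by
      have h := orderOf_injective (MulAut.conj (g : G)).toMonoidHom (MulAut.conj (g : G)).injective z
      simpa [hw, S.z2] using h
    obtain ⟨c, hc, hcw⟩ := S.conj w hw2 hwz hne
    refine hXt fun x hx => mem_centralizer_singleton_iff.2 ?_
    have hx' : c * x * c⁻¹ ∈ X := (mem_normalizer_iff.1 (hXC hc) x).1 hx
    have hxg : (g : G)⁻¹ * (c * x * c⁻¹) * g ∈ X := (mem_normalizer_iff''.1 g.2 _).1 hx'
    have h1 : Commute ((g : G)⁻¹ * (c * x * c⁻¹) * g) z :=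
      mem_centralizer_singleton_iff.1 (S.le (hXO hxg))
    have h2 : Commute (c * x * c⁻¹) w := by
      have h3 := h1.map (MulAut.conj (g : G))
      simp only [MulAut.conj_apply] at h3
      rwa [show (g : G) * ((g : G)⁻¹ * (c * x * c⁻¹) * g) * (g : G)⁻¹ = c * x * c⁻¹ by group] at h3
    rw [← hcw] at h2
    have h4 := h2.map (MulAut.conj c⁻¹)
    simp only [MulAut.conj_apply, inv_inv] at h4
    rw [show c⁻¹ * (c * x * c⁻¹) * c = x by group, show c⁻¹ * (c * t * c⁻¹) * c = t by group] at h4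
    exact h4.eq
  obtain ⟨N, hN, hNodd, hcen⟩ := Transfer.exists_odd_normal_of_isolated hiso
  -- every element of `M` is in `N C`
  have hMNC : M ≤ N.map M.subtype ⊔ C := by
    intro g hg
    obtain ⟨k, hm, hk⟩ : ∃ k : M, k ∈ N ∧
        k * ⟨z, hzM⟩ * k⁻¹ = (⟨g, hg⟩ : M) * ⟨z, hzM⟩ * (⟨g, hg⟩ : M)⁻¹ := by
      set zM : M := ⟨z, hzM⟩
      set w : M := (⟨g, hg⟩ : M) * zM * (⟨g, hg⟩ : M)⁻¹ with hw
      have hn : zM * w ∈ N := by
        have h := hcen ⟨g, hg⟩
        have hzinv : zM⁻¹ = zM := inv_eq_of_mul_eq_one_right (Subtype.ext S.zz)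
        have : (zM * (⟨g, hg⟩ : M) * zM⁻¹ * (⟨g, hg⟩ : M)⁻¹) = zM * w := by rw [hzinv, hw]; group
        rwa [this] at h
      obtain ⟨l, hl⟩ : Odd (orderOf (zM * w)) :=
        hNodd.of_dvd_nat (by rw [← Subgroup.orderOf_mk _ hn]; exact _root_.orderOf_dvd_natCard _)
      have hzz : zM * zM = 1 := Subtype.ext S.zz
      have hww : w * w = 1 := by rw [hw, show ∀ a b : M, a * b * a⁻¹ * (a * b * a⁻¹) = a * (b * b) * a⁻¹
        from fun a b => by group, hzz]; group
      -- `n = z w` is inverted by both, its square root moves `z` to `w`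
      have hinv : zM * (zM * w) * zM⁻¹ = (zM * w)⁻¹ := by
        rw [inv_eq_of_mul_eq_one_right hzz, mul_inv_rev, inv_eq_of_mul_eq_one_right hzz,
          inv_eq_of_mul_eq_one_right hww, ← mul_assoc, hzz, one_mul]
      refine ⟨((zM * w) ^ (l + 1))⁻¹, inv_mem (pow_mem hn _), ?_⟩
      rw [inv_inv]
      have h1 : zM * (zM * w) ^ (l + 1) = ((zM * w) ^ (l + 1))⁻¹ * zM := by
        have := congrArg (· ^ (l + 1)) hinv
        simp only [conj_pow, inv_pow] at this
        rw [← this]; group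
      rw [mul_assoc, h1, ← mul_assoc, ← mul_inv_rev, ← pow_add]
      have h2 : ((zM * w) ^ (l + 1 + (l + 1)))⁻¹ = (zM * w)⁻¹ := by
        rw [show l + 1 + (l + 1) = (2 * l + 1) + 1 by ring, pow_succ, ← hl, pow_orderOf_eq_one, one_mul]
      rw [h2, mul_inv_rev, inv_eq_of_mul_eq_one_right hzz, inv_eq_of_mul_eq_one_right hww, mul_assoc, hzz,
        mul_one]
    have hkC : ((k : G))⁻¹ * g ∈ C := by
      refine mem_centralizer_singleton_iff.2 ?_
      have h : (k : G) * z * (k : G)⁻¹ = g * z * g⁻¹ := congrArg Subtype.val hk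
      calc (k : G)⁻¹ * g * z = (k : G)⁻¹ * (g * z * g⁻¹) * g := by group
        _ = z * ((k : G)⁻¹ * g) := by rw [← h]; group
    rw [show g = (k : G) * ((k : G)⁻¹ * g) by group]
    exact mul_mem_sup (mem_map_of_mem _ hm) hkC
  set N' := N.map M.subtype with hN'
  have hN'M : M ≤ normalizer (N' : Set G) := fun m hm => mem_normalizer_fintype fun a ha => by
    obtain ⟨b, hb, rfl⟩ := ha
    exact ⟨_, hN.conj_mem b hb ⟨m, hm⟩, rfl⟩
  have hOM : O ≤ M := S.le.trans hXC
  have hC' : C ≤ normalizer ((N' ⊔ O : Subgroup G) : Set G) := fun c hc => by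
    refine mem_normalizer_iff_map_conj_eq.2 ?_
    rw [Subgroup.map_sup, mem_normalizer_iff_map_conj_eq.1 (hN'M (hXC hc)), mem_normalizer_iff_map_conj_eq.1 (S.norm hc)]
  have hodd : Odd (Nat.card ↥(N' ⊔ O)) := by
    have h1 := Coprime.card_mul_inf N' O
    rw [← Subgroup.coe_mul_of_right_le_normalizer_left N' O (hOM.trans hN'M)] at h1
    have h2 : Odd (Nat.card N' * Nat.card O) :=
      (by rwa [card_map_of_injective M.subtype_injective] : Odd (Nat.card N')).mul S.odd
    rw [← h1] at h2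
    exact h2.of_dvd_nat ⟨_, rfl⟩
  refine ⟨N' ⊔ O, hodd, hC', ?_, sup_le (map_subtype_le _) hOM, hMNC.trans (sup_le_sup_right le_sup_left _)⟩
  refine le_antisymm (hmax _ inf_le_right (hodd.of_dvd_nat (card_dvd_of_le inf_le_left)) fun c hc => ?_)
    (le_inf le_sup_right S.le)
  refine mem_normalizer_fintype fun a ha => ⟨(mem_normalizer_iff.1 (hC' hc) a).1 ha.1, ?_⟩
  exact C.mul_mem (C.mul_mem hc ha.2) (C.inv_mem hc)

/-- **The core step.** `Ot` stands for `O(C(t))`. -/
theorem core_centralized (Ot : Subgroup G)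
    (hmax : ∀ N : Subgroup G, N ≤ centralizer ({z} : Set G) → Odd (Nat.card N) →
      centralizer ({z} : Set G) ≤ normalizer (N : Set G) → N ≤ O)
    (hcent : ∀ x ∈ O ⊓ centralizer ({t} : Set G), x ∉ Ot → ∀ y ∈ centralizer ({t} : Set G),
      Odd (orderOf y) → z * y * z⁻¹ = y⁻¹ → Commute x y → y ∈ Ot)
    (hκ : ∀ r : ℕ, r.Prime → (Cfsg.pCore r ↥O).map O.subtype ≠ ⊥ →
      ¬ (Cfsg.pCore r ↥O).map O.subtype ⊓ centralizer ({t} : Set G) ≤ Ot)
    (hforced : ∀ Y : Subgroup G, Odd (Nat.card Y) → centralizer ({z} : Set G) ≤ normalizer (Y : Set G) →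
      Y ⊓ centralizer ({z} : Set G) = O →
      Y ⊓ centralizer ({t} : Set G) ≤ (O ⊓ centralizer ({t} : Set G)) ⊔ Ot → Y ≤ centralizer ({z} : Set G))
    (hord : ∀ r : ℕ, r.Prime → r ∣ (centralizer ({t} : Set G)).relIndex O →
      (Nat.card ↥(centralizer ({z} : Set G))).factorization r < (Nat.card G).factorization r) :
    O ≤ centralizer ({t} : Set G) := by
  classical
  refine S.le_centralizer_t hord fun r hr hXt => ?_
  set X := (Cfsg.pCore r ↥O).map O.subtype with hX
  have hne : X ≠ ⊥ := fun h => hXt (h ▸ bot_le)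
  have hXC : centralizer ({z} : Set G) ≤ normalizer (X : Set G) :=
    S.norm.trans (Cores.normalizer_le_normalizer_map _)
  obtain ⟨Y, hodd, hCY, hYC, hYM, hM⟩ := S.exists_overgroup hmax (map_subtype_le _) hXC hXt
  have hY : Y ≤ centralizer ({z} : Set G) := by
    refine hforced Y hodd hCY hYC fun y hy => ?_
    obtain ⟨x, hx, hxO⟩ := SetLike.not_le_iff_exists.1 (hκ r hr hne)
    have hzt : Commute z t := S.tz.symm
    have hzy : z * y * z⁻¹ ∈ Y ⊓ centralizer ({t} : Set G) := by
      refine ⟨(mem_normalizer_iff.1 (hCY (mem_centralizer_singleton_iff.2 rfl)) y).1 hy.1, ?_⟩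
      have hz' : z ∈ centralizer ({t} : Set G) := mem_centralizer_singleton_iff.2 hzt.eq
      exact mul_mem (mul_mem hz' hy.2) (((centralizer ({t} : Set G)).inv_mem hz'))
    set d := y⁻¹ * (z * y * z⁻¹) with hd
    have hdY : d ∈ Y ⊓ centralizer ({t} : Set G) := mul_mem (inv_mem hy) hzy
    obtain ⟨l, hl⟩ : Odd (orderOf d) :=
      hodd.of_dvd_nat (by rw [← Subgroup.orderOf_mk _ hdY.1]; exact _root_.orderOf_dvd_natCard _)
    have hzi : z⁻¹ = z := inv_eq_of_mul_eq_one_right S.zz
    have hdinv : z * d * z⁻¹ = d⁻¹ := by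
      rw [hd, hzi]
      calc z * (y⁻¹ * (z * y * z)) * z = z * y⁻¹ * z * y * (z * z) := by group
        _ = z * y⁻¹ * z * y := by rw [S.zz, mul_one]
        _ = z⁻¹ * y⁻¹ * z⁻¹ * y := by rw [hzi]
        _ = _ := by group
    set i := d ^ (l + 1) with hi
    have hii : i * i = d := by
      rw [hi, ← pow_add, show l + 1 + (l + 1) = (2 * l + 1) + 1 by ring, pow_succ, ← hl, pow_orderOf_eq_one,
        one_mul]
    have hiinv : z * i * z⁻¹ = i⁻¹ := by rw [hi, ← conj_pow, hdinv, inv_pow]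
    -- `d` centralises `X`
    have hdx : Commute x d := by
      have hxz : ∀ a ∈ X, Commute a z := fun a ha =>
        mem_centralizer_singleton_iff.1 (S.le ((map_subtype_le _ : X ≤ O) ha))
      have h1 : y * x * y⁻¹ ∈ X := (mem_normalizer_iff.1 (hYM hy.1) x).1 hx.1
      have h2 : y⁻¹ * z * y * x = x * (y⁻¹ * z * y) := by
        calc y⁻¹ * z * y * x = y⁻¹ * (z * (y * x * y⁻¹)) * y := by group
          _ = y⁻¹ * ((y * x * y⁻¹) * z) * y := by rw [(hxz _ h1).eq]
          _ = _ := by group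
      show x * d = d * x
      have h3 : z⁻¹ * x = x * z⁻¹ := ((hxz x hx.1).inv_right).eq.symm
      calc x * d = x * (y⁻¹ * z * y) * z⁻¹ := by rw [hd]; group
        _ = y⁻¹ * z * y * (x * z⁻¹) := by rw [← h2]; group
        _ = d * x := by rw [← h3, hd]; group
    have hiY : i ∈ Y ⊓ centralizer ({t} : Set G) := pow_mem hdY _
    have hiOt : i ∈ Ot := hcent x ⟨(map_subtype_le _ : X ≤ O) hx.1, hx.2⟩ hxO i hiY.2
      (hodd.of_dvd_nat (by rw [← Subgroup.orderOf_mk _ hiY.1]; exact _root_.orderOf_dvd_natCard _))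
      hiinv (hdx.pow_right _)
    have hc : y * i ∈ O ⊓ centralizer ({t} : Set G) := by
      refine ⟨hYC ▸ ⟨mul_mem hy.1 hiY.1, mem_centralizer_singleton_iff.2 ?_⟩, mul_mem hy.2 hiY.2⟩
      have h1 : z * y * z⁻¹ = y * d := by rw [hd]; group
      have h2 : z * (y * i) * z⁻¹ = y * i := by
        calc z * (y * i) * z⁻¹ = (z * y * z⁻¹) * (z * i * z⁻¹) := by group
          _ = y * (i * i) * i⁻¹ := by rw [h1, hiinv, hii, mul_assoc]
          _ = _ := by group
      exact (mul_inv_eq_iff_eq_mul.1 h2).symm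
    rw [show y = (y * i) * i⁻¹ by group]
    exact mul_mem_sup hc (inv_mem hiOt)
  intro g hg
  exact (hM.trans (sup_le hY le_rfl)) (centralizer_le_normalizer _ hg)

end CoreSetting

end Cfsg.Agent.SDKeystone
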