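import Cfsg.Agent.Lib.Solvable.Fitting
import Cfsg.Agent.Lib.Cores.Fitting
import Cfsg.Agent.Lib.Coprime.Factorization

/-!
# Semidihedral / wreathed keystone: the core of `C(z)` and a non-central involution (helper26)

`notes/sd_wreathed_core_helper26.md`, Lemma A.

* `CoreSetting z t O` : `O` odd, solvable, normal in `C(z)`; every involution `v ≠ z` of `C(z)` is conjugate to `t`
* `not_centralizer_le` : if `r` divides `|O : C_O(t)|` and `|C(z)|_r < |G|_r`, then `C(P₀) ⊄ C(z)` for a Sylow
  `r`-subgroup `P₀` of `C(z)`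
* `le_centralizer_t` : if `C(O_r(O)) ≤ C(z)` whenever `t` moves `O_r(O)`, then `t` centralises `O`
-/

set_option autoImplicit false

namespace Cfsg.Agent.SDKeystone

open Subgroup

universe u

variable {G : Type u} [Group G] [Finite G] {z t : G} {O : Subgroup G}

/-- The standing facts about `O = O(C(z))` and the noncentral involution `t`. -/
structure CoreSetting (z t : G) (O : Subgroup G) : Prop where
  z2 : orderOf z = 2
  t2 : orderOf t = 2
  tz : Commute t z
  le : O ≤ centralizer ({z} : Set G)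
  norm : centralizer ({z} : Set G) ≤ normalizer (O : Set G)
  odd : Odd (Nat.card O)
  solv : Group.IsSolvable O
  conj : ∀ v : G, orderOf v = 2 → Commute v z → v ≠ z → ∃ g ∈ centralizer ({z} : Set G), g * t * g⁻¹ = v

namespace CoreSetting

variable (S : CoreSetting z t O)
include S

theorem t_mem : t ∈ centralizer ({z} : Set G) := mem_centralizer_singleton_iff.2 S.tz.eq

/-- `|O : C_O(t)|`. -/
theorem index_mul : (centralizer ({t} : Set G)).relIndex O * Nat.card ↥(O ⊓ centralizer ({t} : Set G)) =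
    Nat.card O := by
  have h := ((centralizer ({t} : Set G)).subgroupOf O).index_mul_card
  rw [Nat.card_congr ((equivMapOfInjective _ O.subtype O.subtype_injective).toEquiv), subgroupOf_map_subtype,
    inf_comm] at h
  exact h

/-- **The growth lemma**: `C(P₀) ⊄ C(z)`. -/
theorem not_centralizer_le {r : ℕ} [Fact r.Prime] (hr : r ∣ (centralizer ({t} : Set G)).relIndex O)
    (hord : (Nat.card ↥(centralizer ({z} : Set G))).factorization r < (Nat.card G).factorization r)
    {P₀ : Subgroup G} (hP : IsPGroup r P₀) (hPC : P₀ ≤ centralizer ({z} : Set G))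
    (hcard : Nat.card P₀ = r ^ (Nat.card ↥(centralizer ({z} : Set G))).factorization r) :
    ¬ centralizer (P₀ : Set G) ≤ centralizer ({z} : Set G) := by
  intro hle
  classical
  set C := centralizer ({z} : Set G) with hC
  -- an element outside `C` normalising `P₀`
  obtain ⟨P, hPP⟩ := hP.exists_le_sylow
  have hlt : P₀ < (P : Subgroup G) := by
    refine lt_of_le_of_ne hPP fun e => ?_
    have h1 : Nat.card P₀ = r ^ (Nat.card G).factorization r := by rw [e]; exact P.card_eq_multiplicity
    rw [hcard] at h1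
    exact hord.ne (Nat.pow_right_injective (Fact.out : r.Prime).two_le h1)
  haveI : Group.IsNilpotent ↥(P : Subgroup G) := P.2.isNilpotent
  have hlt' : P₀.subgroupOf (P : Subgroup G) < ⊤ :=
    lt_top_iff_ne_top.2 fun e => hlt.not_ge (subgroupOf_eq_top.1 e)
  obtain ⟨y, hy, hy0⟩ := SetLike.exists_of_lt (Group.normalizerCondition_of_isNilpotent _ hlt')
  have hyN : (y : G) ∈ normalizer (P₀ : Set G) := by
    refine mem_normalizer_fintype fun a ha => ?_
    have h := (mem_normalizer_iff.1 hy ⟨a, hPP ha⟩).1 (mem_subgroupOf.2 ha)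
    exact mem_subgroupOf.1 h
  have hyC : (y : G) ∉ C := fun hyC => by
    set K := P₀ ⊔ zpowers (y : G)
    have hK : K ≤ (P : Subgroup G) := sup_le hPP (zpowers_le.2 y.2)
    have hKp : IsPGroup r K := P.2.to_le hK
    obtain ⟨k, hk⟩ := IsPGroup.iff_card.1 hKp
    have hd : r ^ k ∣ Nat.card C := hk ▸ card_dvd_of_le (sup_le hPC (zpowers_le.2 hyC))
    have hk' : k ≤ (Nat.card C).factorization r :=
      ((Fact.out : r.Prime).pow_dvd_iff_le_factorization Nat.card_pos.ne').1 hd
    have hge : Nat.card K ≤ Nat.card P₀ := by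
      rw [hk, hcard]; exact Nat.pow_le_pow_right (Fact.out : r.Prime).pos hk'
    have he : P₀ = K := eq_of_le_of_card_ge le_sup_left hge
    exact hy0 (mem_subgroupOf.2 (he.symm ▸ mem_sup_right (mem_zpowers _)))
  -- the conjugate involution
  set w := (y : G) * z * (y : G)⁻¹ with hw
  have hzP : z ∈ centralizer (P₀ : Set G) :=
    mem_centralizer_iff.2 fun a ha => (mem_centralizer_singleton_iff.1 (hPC ha))
  have hwP : w ∈ centralizer (P₀ : Set G) := by
    refine mem_centralizer_iff.2 fun a ha => ?_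
    have h1 : (y : G)⁻¹ * a * y ∈ P₀ := by
      have := (mem_normalizer_iff.1 (inv_mem hyN) a).1 ha
      rwa [inv_inv] at this
    have h2 := mem_centralizer_iff.1 hzP _ h1
    calc a * w = (y : G) * ((y : G)⁻¹ * a * y * z) * (y : G)⁻¹ := by rw [hw]; group
      _ = (y : G) * (z * ((y : G)⁻¹ * a * y)) * (y : G)⁻¹ := by rw [h2]
      _ = w * a := by rw [hw]; group
  have hw2 : orderOf w = 2 := by
    have h := orderOf_injective (MulAut.conj (y : G)).toMonoidHom (MulAut.conj (y : G)).injective z
    simpa [hw, S.z2] using h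
  have hwz : Commute w z := mem_centralizer_singleton_iff.1 (hle hwP)
  by_cases hne : w = z
  · exact hyC (mem_centralizer_singleton_iff.2 (mul_inv_eq_iff_eq_mul.1 (hw.symm.trans hne)))
  obtain ⟨g, hgC, hgw⟩ := S.conj w hw2 hwz hne
  -- `t` centralises a Sylow subgroup of `O`
  set Q := (P₀ ⊓ O).map (MulAut.conj g⁻¹).toMonoidHom with hQ
  have hQle : Q ≤ O ⊓ centralizer ({t} : Set G) := by
    rintro _ ⟨a, ⟨haP, haO⟩, rfl⟩
    refine ⟨?_, mem_centralizer_singleton_iff.2 ?_⟩
    · exact (mem_normalizer_iff.1 (S.norm (inv_mem hgC)) a).1 haO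
    · have h := mem_centralizer_iff.1 hwP a haP
      rw [← hgw] at h
      show g⁻¹ * a * (g⁻¹)⁻¹ * t = t * (g⁻¹ * a * (g⁻¹)⁻¹)
      rw [inv_inv]
      calc g⁻¹ * a * g * t = g⁻¹ * (a * (g * t * g⁻¹)) * g := by group
        _ = g⁻¹ * (g * t * g⁻¹ * a) * g := by rw [h]
        _ = t * (g⁻¹ * a * g) := by group
  have hQd : r ^ (Nat.card O).factorization r ∣ Nat.card Q := by
    rw [hQ, card_map_of_injective (MulAut.conj g⁻¹).injective]
    obtain ⟨k, hk⟩ := IsPGroup.iff_card.1 (hP.to_le (inf_le_left : P₀ ⊓ O ≤ P₀))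
    rw [hk]
    refine pow_dvd_pow r ?_
    have hmul := Coprime.card_mul_inf O P₀
    rw [← Subgroup.coe_mul_of_right_le_normalizer_left O P₀ (hPC.trans S.norm)] at hmul
    change Nat.card ↥(O ⊔ P₀) * _ = _ at hmul
    rw [inf_comm, hk, hcard] at hmul
    have hd : Nat.card ↥(O ⊔ P₀) ∣ Nat.card C := card_dvd_of_le (sup_le S.le hPC)
    have hle' : (Nat.card ↥(O ⊔ P₀)).factorization r ≤ (Nat.card C).factorization r :=
      (Nat.factorization_le_iff_dvd Nat.card_pos.ne' Nat.card_pos.ne').2 hd r
    have := congrArg (fun n : ℕ => n.factorization r) hmul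
    rw [Nat.factorization_mul Nat.card_pos.ne' (pow_ne_zero _ (Fact.out : r.Prime).ne_zero),
      Nat.factorization_mul Nat.card_pos.ne' (pow_ne_zero _ (Fact.out : r.Prime).ne_zero),
      Finsupp.add_apply, Finsupp.add_apply, (Fact.out : r.Prime).factorization_pow,
      (Fact.out : r.Prime).factorization_pow, Finsupp.single_eq_same, Finsupp.single_eq_same] at this
    omega
  have hd : r ^ (Nat.card O).factorization r ∣ Nat.card ↥(O ⊓ centralizer ({t} : Set G)) :=
    hQd.trans (card_dvd_of_le hQle)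
  have h1 : r * r ^ (Nat.card O).factorization r ∣ Nat.card O := by
    exact (mul_dvd_mul hr hd).trans (dvd_of_eq S.index_mul)
  rw [← pow_succ'] at h1
  have := ((Fact.out : r.Prime).pow_dvd_iff_le_factorization Nat.card_pos.ne').1 h1
  omega

/-- If `r` is prime to `|O : C_O(t)|`, then `t` centralises `O_r(O)`. -/
theorem pCore_le_centralizer {r : ℕ} [Fact r.Prime] (hr : ¬ r ∣ (centralizer ({t} : Set G)).relIndex O) :
    (Cfsg.pCore r ↥O).map O.subtype ≤ centralizer ({t} : Set G) := by
  classical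
  obtain ⟨R⟩ : Nonempty (Sylow r ↥((centralizer ({t} : Set G)).subgroupOf O)) := inferInstance
  set R' : Subgroup ↥O := (R : Subgroup ↥((centralizer ({t} : Set G)).subgroupOf O)).map (Subgroup.subtype _)
  have hd : r ^ (Nat.card O).factorization r ∣ Nat.card ↥((centralizer ({t} : Set G)).subgroupOf O) := by
    refine ((Nat.Coprime.pow_left _ ((Fact.out : r.Prime).coprime_iff_not_dvd.2 hr))).dvd_of_dvd_mul_left ?_
    rw [show (centralizer ({t} : Set G)).relIndex O = ((centralizer ({t} : Set G)).subgroupOf O).index from rfl,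
      Subgroup.index_mul_card]
    exact Nat.ordProj_dvd _ _
  have hcard : Nat.card R' = r ^ (Nat.card O).factorization r := by
    rw [card_map_of_injective (Subgroup.subtype_injective _), R.card_eq_multiplicity]
    congr 1
    refine le_antisymm ?_ (((Fact.out : r.Prime).pow_dvd_iff_le_factorization Nat.card_pos.ne').1 hd)
    exact (Nat.factorization_le_iff_dvd Nat.card_pos.ne' Nat.card_pos.ne').2 (card_subgroup_dvd_card _) r
  set R₀ : Sylow r ↥O := Sylow.ofCard R' hcard
  rintro _ ⟨a, ha, rfl⟩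
  have hle : Cfsg.pCore r ↥O ≤ (R₀ : Subgroup ↥O) := Cores.pCore_le_sylow R₀
  obtain ⟨b, -, hb⟩ := hle ha
  exact hb ▸ b.2

/-- **Lemma A.** -/
theorem le_centralizer_t
    (hord : ∀ r : ℕ, r.Prime → r ∣ (centralizer ({t} : Set G)).relIndex O →
      (Nat.card ↥(centralizer ({z} : Set G))).factorization r < (Nat.card G).factorization r)
    (hloc : ∀ r : ℕ, r.Prime → ¬ (Cfsg.pCore r ↥O).map O.subtype ≤ centralizer ({t} : Set G) →
      centralizer (((Cfsg.pCore r ↥O).map O.subtype : Subgroup G) : Set G) ≤ centralizer ({z} : Set G)) :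
    O ≤ centralizer ({t} : Set G) := by
  classical
  haveI := S.solv
  -- every `O_r(O)` is centralised
  have hX : ∀ r : ℕ, r.Prime → (Cfsg.pCore r ↥O).map O.subtype ≤ centralizer ({t} : Set G) := by
    intro r hr
    haveI := Fact.mk hr
    by_cases hX : (Cfsg.pCore r ↥O).map O.subtype ≤ centralizer ({t} : Set G)
    · exact hX
    by_cases hd : r ∣ (centralizer ({t} : Set G)).relIndex O
    swap
    · exact S.pCore_le_centralizer hd
    exfalso
    obtain ⟨R⟩ : Nonempty (Sylow r ↥(centralizer ({z} : Set G))) := inferInstance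
    refine S.not_centralizer_le hd (hord r hr hd)
      (P₀ := (R : Subgroup ↥(centralizer ({z} : Set G))).map (Subgroup.subtype _)) (R.2.map _) (map_subtype_le _)
      (by rw [card_map_of_injective (Subgroup.subtype_injective _)]; exact R.card_eq_multiplicity) ?_
    -- `O_r(O)` lies in every Sylow subgroup of `C(z)`
    refine le_trans (centralizer_le ?_) (hloc r hr hX)
    intro a ha
    have hXC : (Cfsg.pCore r ↥O).map O.subtype ≤ centralizer ({z} : Set G) := (map_subtype_le _).trans S.le
    have hn : (((Cfsg.pCore r ↥O).map O.subtype).subgroupOf (centralizer ({z} : Set G))).Normal :=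
      Cores.subgroupOf_normal_of_le_normalizer (S.norm.trans (Cores.normalizer_le_normalizer_map _))
    have hp : IsPGroup r (((Cfsg.pCore r ↥O).map O.subtype).subgroupOf (centralizer ({z} : Set G))) :=
      (((Cores.isPGroup_pCore r ↥O).map O.subtype).of_equiv (subgroupOfEquivOfLe hXC).symm)
    exact ⟨⟨a, hXC ha⟩, (Cores.le_pCore hn hp).trans (Cores.pCore_le_sylow R) (mem_subgroupOf.2 ha), rfl⟩
  -- so is the Fitting subgroup, hence `O`
  have hF : ∀ f ∈ Cfsg.fittingSubgroup ↥O, (f : G) * t = t * f := by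
    have hle : Cfsg.fittingSubgroup ↥O ≤ (centralizer ({t} : Set G)).subgroupOf O := by
      rw [Cores.fittingSubgroup_eq_iSup_pCore]
      exact iSup_le fun p a ha => mem_subgroupOf.2 (hX p p.2 (mem_map_of_mem _ ha))
    exact fun f hf => mem_centralizer_singleton_iff.1 (mem_subgroupOf.1 (hle hf))
  intro o ho
  rw [mem_centralizer_singleton_iff]
  have htN := S.norm S.t_mem
  have hto : ∀ a ∈ O, t * a * t⁻¹ ∈ O := fun a ha => (mem_normalizer_iff.1 htN a).1 ha
  set c : ↥O := ⟨o * (t * o⁻¹ * t⁻¹), mul_mem ho (hto _ (inv_mem ho))⟩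
  have hcF : c ∈ centralizer (Cfsg.fittingSubgroup ↥O : Set ↥O) := by
    refine mem_centralizer_iff.2 fun f hf => Subtype.ext ?_
    haveI : (Cfsg.fittingSubgroup ↥O).Normal := Subgroup.sSup_normal _ fun _ h => h.1
    have hf' := hF _ ((inferInstance : (Cfsg.fittingSubgroup ↥O).Normal).conj_mem f hf ⟨o, ho⟩⁻¹)
    have hf1 := hF f hf
    have e1 : o⁻¹ * (f : G) * o * t = t * (o⁻¹ * (f : G) * o) := by simpa using hf'
    show (f : G) * (o * (t * o⁻¹ * t⁻¹)) = o * (t * o⁻¹ * t⁻¹) * f
    calc (f : G) * (o * (t * o⁻¹ * t⁻¹)) = o * (o⁻¹ * f * o * t) * o⁻¹ * t⁻¹ := by group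
      _ = o * t * o⁻¹ * ((f : G) * t⁻¹) := by rw [e1]; group
      _ = o * t * o⁻¹ * (t⁻¹ * f) := by rw [(show Commute (f : G) t from hf1).inv_right.eq]
      _ = _ := by group
  have hcz := Solvable.centralizer_fitting_le ↥O hcF
  have hct := hF c hcz
  have htt : t * t = 1 := by rw [← pow_two, ← S.t2, pow_orderOf_eq_one]
  have hinv : t⁻¹ = t := inv_eq_of_mul_eq_one_left htt
  have e2 : t * (c : G) * t = (c : G)⁻¹ := by
    show t * (o * (t * o⁻¹ * t⁻¹)) * t = (o * (t * o⁻¹ * t⁻¹))⁻¹
    calc t * (o * (t * o⁻¹ * t⁻¹)) * t = t * o * t * o⁻¹ := by group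
      _ = t * o * t⁻¹ * o⁻¹ := by rw [hinv]
      _ = _ := by group
  have hcc : (c : G) * c = 1 := by
    have : t * (c : G) * t = c := by rw [← hct, mul_assoc, htt, mul_one]
    rw [e2] at this
    exact inv_eq_iff_mul_eq_one.1 this
  have hc1 : (c : G) = 1 := by
    refine orderOf_eq_one_iff.1 (Nat.eq_one_of_dvd_coprimes (Nat.coprime_two_left.2 S.odd)
      (orderOf_dvd_of_pow_eq_one (by rw [pow_two]; exact hcc)) ?_)
    rw [Subgroup.orderOf_coe]
    exact _root_.orderOf_dvd_natCard c
  calc o * t = (c : G) * (t * o) := by show o * t = o * (t * o⁻¹ * t⁻¹) * (t * o); group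
    _ = t * o := by rw [hc1, one_mul]

end CoreSetting

end Cfsg.Agent.SDKeystone
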