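import Mathlib
import Cfsg.Agent.EqLemmas

/-!
# The ratio of two values of Brauer's semidihedral equations

* `Valid` : the conditions of the equations on the signed degree `X`;
* `large` : for a prime power `q ≥ 27` there is no such `X` with `|X| ≤ 5 q`;
* `bounds` : for `q ≥ 7`, `q ≠ 9` the value `X (X - 1) / (X - Q) ^ 2` lies in `(2/3, 2]`;
* `ratio_eq_one` : two such values have no odd integral ratio above one.
-/

set_option autoImplicit false

namespace Cfsg.Agent.SDKeystone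

/-- The conditions on the signed degree in Brauer's semidihedral equations. -/
def Valid (q : ℕ) (Q X : ℤ) : Prop :=
  X ≠ 0 ∧ X ≠ 1 ∧ X ≠ Q ∧ (X - 1) % 4 = 2 ∧ (q : ℤ) ^ 2 - X ∣ X * (X - 1)

variable {q : ℕ} {Q X : ℤ}

theorem Valid.dvd_main (h : Valid q Q X) :
    (q : ℤ) ^ 2 - X ∣ (q : ℤ) ^ 2 * ((q : ℤ) ^ 2 - 1) := by
  have h' := h.2.2.2.2
  have e : (q : ℤ) ^ 2 * ((q : ℤ) ^ 2 - 1) =
      X * (X - 1) + ((q : ℤ) ^ 2 - X) * ((q : ℤ) ^ 2 + X - 1) := by ring
  rw [e]
  exact dvd_add h' (dvd_mul_right _ _)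

theorem Valid.diff_ne (h : Valid q Q X) (hq : Odd q) : (q : ℤ) ^ 2 - X ≠ 0 := by
  intro e
  have h4 := h.2.2.2.1
  obtain ⟨k, rfl⟩ := hq
  rw [show X - 1 = 4 * ((k : ℤ) * k + k) by push_cast at e; linarith] at h4
  omega

/-- A list check: the values `X` in `[-N, N]` satisfying the divisibility. -/
def cands (q N : ℕ) : List ℤ :=
  ((List.range (2 * N + 1)).map fun i : ℕ => (i : ℤ) - N).filter fun X : ℤ =>
    decide (X % 4 = 3 ∧ ((q : ℤ) ^ 2 * ((q : ℤ) ^ 2 - 1)) % ((q : ℤ) ^ 2 - X) = 0)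

theorem Valid.mem_cands (h : Valid q Q X) {N : ℕ} (hN : X.natAbs ≤ N) : X ∈ cands q N := by
  rw [cands, List.mem_filter, List.mem_map]
  refine ⟨⟨(X + N).toNat, List.mem_range.2 (by omega), by omega⟩, decide_eq_true ⟨?_, ?_⟩⟩
  · have := h.2.2.2.1; omega
  · exact Int.emod_eq_zero_of_dvd h.dvd_main

/-- All solutions are bounded. -/
theorem Valid.natAbs_le (h : Valid q Q X) (hq : 2 ≤ q) : X.natAbs ≤ q ^ 4 := by
  have hq2 : (4 : ℤ) ≤ (q : ℤ) ^ 2 := by
    have : (2 : ℤ) ≤ q := by exact_mod_cast hq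
    nlinarith
  have hd := Int.natAbs_le_of_dvd_ne_zero h.dvd_main (by
    refine mul_ne_zero (by omega) (by omega))
  have e : ((q : ℤ) ^ 2 * ((q : ℤ) ^ 2 - 1)).natAbs = q ^ 2 * (q ^ 2 - 1) := by
    rw [Int.natAbs_mul, Int.natAbs_pow, Int.natAbs_natCast,
      show Int.natAbs ((q : ℤ) ^ 2 - 1) = q ^ 2 - 1 by
        have : ((q ^ 2 : ℕ) : ℤ) = (q : ℤ) ^ 2 := by push_cast; ring
        omega]
  rw [e] at hd
  have h1 : q ^ 2 * (q ^ 2 - 1) + q ^ 2 = q ^ 4 := by
    have : 1 ≤ q ^ 2 := Nat.one_le_pow _ _ (by omega)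
    obtain ⟨k, hk⟩ := Nat.exists_eq_add_of_le this
    rw [show q ^ 4 = q ^ 2 * q ^ 2 by ring, hk, Nat.add_sub_cancel_left]; ring
  have : ((q ^ 2 : ℕ) : ℤ) = (q : ℤ) ^ 2 := by push_cast; ring
  omega

theorem small_check :
    ((List.range 57).map (fun i => 2 * i + 27)).all (fun q =>
      (cands q (5 * q)).all fun X => decide (X = 1 ∨ X = (q : ℤ) ∨ X = -(q : ℤ) ∨
        q ∈ [35, 39, 55, 77, 99, 105])) = true := by
  decide +kernel

theorem mid_check :
    ([7, 11, 13, 17, 19, 23, 25] : List ℕ).all (fun q =>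
      (cands q (5 * q)).all fun X => decide ((q % 4 = 3 → X = (q : ℤ) ∨
        2 * (X - q) ^ 2 < 3 * (X * (X - 1)) ∧ X * (X - 1) ≤ 2 * (X - q) ^ 2) ∧
        (q % 4 = 1 → X = -(q : ℤ) ∨
          2 * (X + q) ^ 2 < 3 * (X * (X - 1)) ∧ X * (X - 1) ≤ 2 * (X + q) ^ 2))) = true := by
  decide +kernel

set_option maxHeartbeats 1000000 in
/-- For a large prime power there is no solution with `|X| ≤ 5 q`. -/
theorem large {p n : ℕ} (hp : p.Prime) (hqp : q = p ^ n) (hq : Odd q) (hq27 : 27 ≤ q)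
    (h : Valid q Q X) (hQ : Q = q ∨ Q = -(q : ℤ)) (hQ4 : Q % 4 = 3) (hX : X.natAbs ≤ 5 * q) :
    False := by
  obtain ⟨h0, h1, hXQ, h4, -⟩ := id h
  have hXne : X ≠ (q : ℤ) ∧ X ≠ -(q : ℤ) := by rcases hQ with rfl | rfl <;> omega
  by_cases hsmall : q ≤ 140
  · obtain ⟨k, rfl⟩ := hq
    have hm : 2 * k + 1 ∈ ((List.range 57).map (fun i => 2 * i + 27)) :=
      List.mem_map.2 ⟨k - 13, List.mem_range.2 (by omega), by omega⟩
    have hl := List.all_eq_true.1 (List.all_eq_true.1 small_check _ hm) X (h.mem_cands hX)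
    rcases of_decide_eq_true hl with e | e | e | e
    · exact h1 e
    · exact hXne.1 e
    · exact hXne.2 e
    · have two : ∀ a b : ℕ, a.Prime → b.Prime → a ≠ b → a ∣ 2 * k + 1 → b ∣ 2 * k + 1 → False :=
        fun a b ha hb hab hda hdb => hab (by
          rw [hqp] at hda hdb
          exact ((Nat.prime_dvd_prime_iff_eq ha hp).1 (ha.dvd_of_dvd_pow hda)).trans
            ((Nat.prime_dvd_prime_iff_eq hb hp).1 (hb.dvd_of_dvd_pow hdb)).symm)
      simp only [List.mem_cons, List.not_mem_nil, or_false] at e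
      rcases e with e | e | e | e | e | e <;> rw [e] at two
      · exact two 5 7 (by norm_num) (by norm_num) (by norm_num) (by norm_num) (by norm_num)
      · exact two 3 13 (by norm_num) (by norm_num) (by norm_num) (by norm_num) (by norm_num)
      · exact two 5 11 (by norm_num) (by norm_num) (by norm_num) (by norm_num) (by norm_num)
      · exact two 7 11 (by norm_num) (by norm_num) (by norm_num) (by norm_num) (by norm_num)
      · exact two 3 11 (by norm_num) (by norm_num) (by norm_num) (by norm_num) (by norm_num)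
      · exact two 5 7 (by norm_num) (by norm_num) (by norm_num) (by norm_num) (by norm_num)
  -- the parametrisation `q ^ 2 - X = P b`
  set d : ℤ := (q : ℤ) ^ 2 - X with hd
  have hd0 : d ≠ 0 := h.diff_ne hq
  set P : ℕ := Int.gcd d ((q : ℤ) ^ 2) with hP
  have hP0 : 0 < P := Int.gcd_pos_of_ne_zero_left _ hd0
  obtain ⟨R, b, hR, hb, hcop⟩ : ∃ R b : ℤ, (q : ℤ) ^ 2 = P * R ∧ d = P * b ∧ IsCoprime b R := by
    obtain ⟨b, hb⟩ : (P : ℤ) ∣ d := Int.gcd_dvd_left _ _
    obtain ⟨R, hR⟩ : (P : ℤ) ∣ (q : ℤ) ^ 2 := Int.gcd_dvd_right _ _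
    refine ⟨R, b, hR, hb, ?_⟩
    obtain ⟨u, v, huv⟩ : ∃ u v : ℤ, (P : ℤ) = d * u + (q : ℤ) ^ 2 * v :=
      ⟨_, _, Int.gcd_eq_gcd_ab d ((q : ℤ) ^ 2)⟩
    refine ⟨u, v, mul_left_cancel₀ (show (P : ℤ) ≠ 0 by omega) ?_⟩
    linear_combination -huv - u * hb - v * hR
  obtain ⟨c, hc⟩ : b ∣ (q : ℤ) ^ 2 - 1 := by
    have h' := h.dvd_main
    rw [← hd, hb] at h'
    nth_rw 1 [hR] at h'
    rw [mul_assoc, mul_dvd_mul_iff_left (show (P : ℤ) ≠ 0 by omega)] at h'
    exact hcop.dvd_of_dvd_mul_left h'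
  set e := b - R with he
  set g := c - P with hg
  have hXe : X = -((P : ℤ) * e) := by
    have : X = (q : ℤ) ^ 2 - P * b := by omega
    rw [this, hR, he]; ring
  have hXg : X - 1 = b * g := by
    have : X - 1 = (q : ℤ) ^ 2 - 1 - P * b := by omega
    rw [this, hc, hg]; ring
  have key : (P : ℤ) * e + R * g = -1 - e * g := by
    have h' : -((P : ℤ) * e) - 1 = (R + e) * g := by
      rw [← hXe, hXg, he]; ring
    linear_combination -h'
  have he0 : e ≠ 0 := fun e0 => h0 (by rw [hXe, e0, mul_zero, neg_zero])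
  have hg0 : g ≠ 0 := fun g0 => h1 (by rw [g0, mul_zero] at hXg; omega)
  have hPp : ∃ i, i ≤ 2 * n ∧ P = p ^ i := by
    have hdvd : P ∣ p ^ (2 * n) := by
      have h' : (P : ℤ) ∣ ((q ^ 2 : ℕ) : ℤ) := by push_cast; exact ⟨R, hR⟩
      rw [mul_comm 2 n, pow_mul, ← hqp]
      exact Int.natCast_dvd_natCast.1 h'
    exact (Nat.dvd_prime_pow hp).1 hdvd
  have hR0 : 0 < R := by
    have hpos : (0 : ℤ) < (q : ℤ) ^ 2 := by positivity
    exact pos_of_mul_pos_right (hR ▸ hpos) (by omega)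
  -- the bounds
  have hq141 : (141 : ℤ) ≤ q := by omega
  have hXb : |X| ≤ 5 * (q : ℤ) := by
    rw [← Int.natCast_natAbs]; exact_mod_cast hX
  have hPe : (P : ℤ) * |e| ≤ 5 * q := by
    rw [hXe, abs_neg, abs_mul, abs_of_pos (show (0 : ℤ) < P by omega)] at hXb
    exact hXb
  have hbg : |b| * |g| ≤ 5 * q + 1 := by
    rw [← abs_mul, ← hXg]
    exact (abs_sub X 1).trans (by simpa using hXb)
  have hbR : R * ((q : ℤ) - 5) ≤ |b| * q := by
    have hlb : R - |e| ≤ |b| := by
      have := abs_sub b e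
      rw [he, sub_sub_cancel, abs_of_pos hR0] at this
      linarith [he]
    have hee : |e| * q ≤ 5 * R := by
      have h' : (P : ℤ) * (|e| * q) ≤ P * (5 * R) := by
        rw [← mul_assoc, show (P : ℤ) * (5 * R) = 5 * ((q : ℤ) * q) by
          rw [← pow_two, hR]; ring]
        nlinarith
      exact le_of_mul_le_mul_left h' (by omega)
    nlinarith
  have hg1 : 1 ≤ |g| := Int.one_le_abs hg0
  have he1 : 1 ≤ |e| := Int.one_le_abs he0
  have heg : |e| * |g| ≤ 26 := by
    by_contra hlt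
    rw [not_le] at hlt
    have e1 : ((P : ℤ) * |e|) * (R * ((q : ℤ) - 5) * |g|) ≤ (5 * q) * ((5 * q + 1) * q) := by
      refine mul_le_mul hPe ?_ (mul_nonneg (mul_nonneg hR0.le (by omega)) (abs_nonneg _)) (by omega)
      calc R * ((q : ℤ) - 5) * |g| ≤ |b| * q * |g| :=
            mul_le_mul_of_nonneg_right hbR (abs_nonneg _)
        _ = |b| * |g| * q := by ring
        _ ≤ (5 * q + 1) * q := mul_le_mul_of_nonneg_right hbg (by omega)
    have e2 : ((P : ℤ) * |e|) * (R * ((q : ℤ) - 5) * |g|) =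
        (q : ℤ) ^ 2 * ((q : ℤ) - 5) * (|e| * |g|) := by rw [hR]; ring
    rw [e2] at e1
    have e3 : (q : ℤ) ^ 2 * ((q : ℤ) - 5) * 27 ≤ (q : ℤ) ^ 2 * ((q : ℤ) - 5) * (|e| * |g|) :=
      mul_le_mul_of_nonneg_left hlt (mul_nonneg (sq_nonneg _) (by omega))
    nlinarith
  have h27 : |1 + e * g| ≤ 27 := by
    refine (abs_add_le _ _).trans ?_
    rw [abs_mul, abs_one]
    linarith
  have hsum : |(P : ℤ) * e + R * g| = |1 + e * g| := by rw [key, ← abs_neg]; ring_nf
  -- the smaller of `P` and `R` divides `1 + e g`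
  obtain ⟨i, hi, hPi⟩ := hPp
  obtain ⟨j, hj⟩ : ∃ j, 2 * n = i + j := ⟨2 * n - i, by omega⟩
  have hRj : R = ((p ^ j : ℕ) : ℤ) := by
    refine mul_left_cancel₀ (show (P : ℤ) ≠ 0 by omega) ?_
    rw [← hR, hPi, ← Nat.cast_mul, ← pow_add, ← hj, mul_comm 2 n, pow_mul, ← hqp]
    push_cast; ring
  have hnz : 1 + e * g ≠ 0 := by
    intro hz
    have hcase : (e = 1 ∧ g = -1) ∨ (e = -1 ∧ g = 1) :=
      Int.mul_eq_neg_one_iff_eq_one_or_neg_one.1 (by omega)
    have hPR : (P : ℤ) = R := by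
      rcases hcase with ⟨e1, g1⟩ | ⟨e1, g1⟩ <;> rw [e1, g1] at key <;> omega
    have hPq : (P : ℤ) = q := by
      rw [← hPR, ← pow_two] at hR
      exact (pow_left_inj₀ (by omega) (by omega) two_ne_zero).1 hR.symm
    rcases hcase with ⟨e1, -⟩ | ⟨e1, -⟩ <;> rw [e1] at hXe <;> omega
  have hRP : R ≤ (P : ℤ) * |e| + 27 ∧ (P : ℤ) ≤ 5 * q := by
    constructor
    · have h' : R * |g| ≤ |(P : ℤ) * e + R * g| + (P : ℤ) * |e| := by
        have := abs_sub ((P : ℤ) * e + R * g) ((P : ℤ) * e)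
        rw [add_sub_cancel_left, abs_mul, abs_mul, abs_of_pos hR0,
          abs_of_pos (show (0 : ℤ) < P by omega)] at this
        exact this
      nlinarith
    · nlinarith
  rcases le_total i j with hij | hij
  · have hPd : (P : ℤ) ∣ 1 + e * g := by
      have : (P : ℤ) ∣ R := by
        rw [hRj, hPi]; exact Int.natCast_dvd_natCast.2 (pow_dvd_pow p hij)
      have h' : (P : ℤ) ∣ (P : ℤ) * e + R * g := dvd_add (dvd_mul_right _ _) (this.mul_right g)
      rw [key] at h'
      have := h'.neg_right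
      rwa [show -(-1 - e * g) = 1 + e * g by ring] at this
    have hPle : (P : ℤ) ≤ 27 :=
      (Int.le_of_dvd (abs_pos.2 hnz) ((dvd_abs _ _).2 hPd)).trans h27
    have : (q : ℤ) ^ 2 ≤ 27 * (5 * q + 27) := by
      rw [hR]
      exact mul_le_mul hPle (by linarith [hRP.1]) hR0.le (by omega)
    nlinarith
  · have hRd : R ∣ 1 + e * g := by
      have : R ∣ (P : ℤ) := by
        rw [hRj, hPi]; exact Int.natCast_dvd_natCast.2 (pow_dvd_pow p hij)
      have h' : R ∣ (P : ℤ) * e + R * g := dvd_add (this.mul_right e) (dvd_mul_right _ _)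
      rw [key] at h'
      have := h'.neg_right
      rwa [show -(-1 - e * g) = 1 + e * g by ring] at this
    have hRle : R ≤ 27 := (Int.le_of_dvd (abs_pos.2 hnz) ((dvd_abs _ _).2 hRd)).trans h27
    have : (q : ℤ) ^ 2 ≤ (5 * q) * 27 := by
      rw [hR]
      exact mul_le_mul hRP.2 hRle hR0.le (by omega)
    nlinarith

/-- For `q ≥ 7`, `q ≠ 9`, the value `X (X - 1) / (X - Q) ^ 2` lies in `(2/3, 2]`. -/
theorem bounds {p n : ℕ} (hp : p.Prime) (hqp : q = p ^ n) (hq : Odd q) (hq7 : 7 ≤ q) (hq9 : q ≠ 9)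
    (h : Valid q Q X) (hQ : Q = q ∨ Q = -(q : ℤ)) (hQ4 : Q % 4 = 3) :
    2 * (X - Q) ^ 2 < 3 * (X * (X - 1)) ∧ X * (X - 1) ≤ 2 * (X - Q) ^ 2 := by
  by_cases hX : X.natAbs ≤ 5 * q
  · by_cases h27 : 27 ≤ q
    · exact (large hp hqp hq h27 h hQ hQ4 hX).elim
    obtain ⟨k, hk⟩ := hq
    have hm : q ∈ ([7, 11, 13, 17, 19, 23, 25] : List ℕ) := by
      have hk' : k ≠ 7 ∧ k ≠ 10 := by
        constructor <;> rintro rfl
        · have h3 := (Nat.prime_dvd_prime_iff_eq Nat.prime_three hp).1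
            (Nat.prime_three.dvd_of_dvd_pow (n := n) (hqp ▸ hk ▸ by norm_num))
          have h5 := (Nat.prime_dvd_prime_iff_eq (by norm_num : Nat.Prime 5) hp).1
            ((by norm_num : Nat.Prime 5).dvd_of_dvd_pow (n := n) (hqp ▸ hk ▸ by norm_num))
          omega
        · have h3 := (Nat.prime_dvd_prime_iff_eq Nat.prime_three hp).1
            (Nat.prime_three.dvd_of_dvd_pow (n := n) (hqp ▸ hk ▸ by norm_num))
          have h7 := (Nat.prime_dvd_prime_iff_eq (by norm_num : Nat.Prime 7) hp).1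
            ((by norm_num : Nat.Prime 7).dvd_of_dvd_pow (n := n) (hqp ▸ hk ▸ by norm_num))
          omega
      simp only [List.mem_cons, List.not_mem_nil, or_false]
      omega
    obtain ⟨c3, c1⟩ := of_decide_eq_true
      (List.all_eq_true.1 (List.all_eq_true.1 mid_check _ hm) X (h.mem_cands hX))
    rcases hQ with rfl | rfl
    · exact (c3 (by omega)).resolve_left h.2.2.1
    · have := (c1 (by omega)).resolve_left h.2.2.1
      rwa [sub_neg_eq_add]
  have hX' : 5 * (q : ℤ) + 1 ≤ |X| := by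
    rw [← Int.natCast_natAbs]; exact_mod_cast not_le.1 hX
  have hq' : (7 : ℤ) ≤ q := by exact_mod_cast hq7
  have hQQ : Q ^ 2 = (q : ℤ) ^ 2 := by rcases hQ with rfl | rfl <;> ring
  have hQX : |Q * X| = q * |X| := by
    rw [abs_mul]; rcases hQ with rfl | rfl <;> simp
  have hb1 := abs_le.1 hQX.le
  have hb2 := abs_le.1 (le_refl |X|)
  have hs : X ^ 2 = |X| ^ 2 := (sq_abs X).symm
  constructor
  · nlinarith [mul_le_mul hX' hX' (by omega) (abs_nonneg X)]
  · nlinarith [mul_le_mul hX' hX' (by omega) (abs_nonneg X)]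

theorem nine_check : (cands 9 45).all (fun X => decide (X = -9 ∨ X = 27 ∨
    2 * (X + 9) ^ 2 < 3 * (X * (X - 1)) ∧ X * (X - 1) ≤ 2 * (X + 9) ^ 2)) = true := by
  decide +kernel

theorem three_check :
    (cands 3 81).all (fun X => decide (X = 1 ∨ X = 3 ∨
      X ∈ ([-9, 7, 11, 15, 27] : List ℤ))) = true := by
  decide +kernel

theorem five_check :
    (cands 5 625).all (fun X => decide (X = 1 ∨ X = -5 ∨
      X ∈ ([-125, -25, 15, 19, 23, 27, 31, 35, 55, 75, 175] : List ℤ))) = true := by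
  decide +kernel

/-- Two values of the equations have no odd integral ratio above one. -/
theorem ratio_eq_one {p n : ℕ} (hp : p.Prime) (hn : 1 ≤ n) (hqp : q = p ^ n) (hq : Odd q)
    (hQ : Q = q ∨ Q = -(q : ℤ)) (hQ4 : Q % 4 = 3) {X' : ℤ} (h : Valid q Q X) (h' : Valid q Q X')
    {k : ℕ} (hk : Odd k)
    (hE : (k : ℤ) * (X' * (X' - 1)) * (X - Q) ^ 2 = X * (X - 1) * (X' - Q) ^ 2) : k = 1 := by
  by_contra hk1
  have hq3 : 3 ≤ q := by
    have : 2 ≤ q := hqp ▸ hp.two_le.trans (Nat.le_self_pow (by omega) p)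
    obtain ⟨j, hj⟩ := hq
    omega
  obtain ⟨j, hj⟩ := hk
  have hk3 : (3 : ℤ) ≤ k := by omega
  have hA : 0 < (X - Q) ^ 2 := by
    have : X - Q ≠ 0 := by have := h.2.2.1; omega
    positivity
  have hB : 0 < (X' - Q) ^ 2 := by
    have : X' - Q ≠ 0 := by have := h'.2.2.1; omega
    positivity
  -- the general contradiction
  have gen : 2 * (X' - Q) ^ 2 < 3 * (X' * (X' - 1)) → X * (X - 1) ≤ 2 * (X - Q) ^ 2 → False := by
    intro a b
    have a' := mul_lt_mul_of_pos_left a hA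
    have b' := mul_le_mul_of_nonneg_right b hB.le
    have c' : 3 * ((X' * (X' - 1)) * (X - Q) ^ 2) ≤ (k : ℤ) * ((X' * (X' - 1)) * (X - Q) ^ 2) :=
      mul_le_mul_of_nonneg_right hk3 (mul_nonneg (by nlinarith [a, hB]) hA.le)
    nlinarith
  by_cases h357 : 7 ≤ q ∧ q ≠ 9
  · exact gen (bounds hp hqp hq h357.1 h357.2 h' hQ hQ4).1
      (bounds hp hqp hq h357.1 h357.2 h hQ hQ4).2
  obtain ⟨r, hr⟩ := hq
  obtain rfl | rfl | rfl : q = 3 ∨ q = 5 ∨ q = 9 := by omega
  · obtain rfl : Q = 3 := by rcases hQ with rfl | rfl <;> omega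
    have mem : ∀ Y, Valid 3 3 Y → Y ∈ ([-9, 7, 11, 15, 27] : List ℤ) := fun Y hY => by
      have hl := of_decide_eq_true (List.all_eq_true.1 three_check Y
        (hY.mem_cands ((hY.natAbs_le (by norm_num)).trans (by norm_num))))
      exact (hl.resolve_left hY.2.1).resolve_left hY.2.2.1
    have m := mem X h
    have m' := mem X' h'
    simp only [List.mem_cons, List.not_mem_nil, or_false] at m m'
    rcases m with rfl | rfl | rfl | rfl | rfl <;> rcases m' with rfl | rfl | rfl | rfl | rfl <;>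
      norm_num at hE <;> omega
  · obtain rfl : Q = -5 := by rcases hQ with rfl | rfl <;> omega
    have mem : ∀ Y, Valid 5 (-5) Y →
        Y ∈ ([-125, -25, 15, 19, 23, 27, 31, 35, 55, 75, 175] : List ℤ) := fun Y hY => by
      have hl := of_decide_eq_true (List.all_eq_true.1 five_check Y
        (hY.mem_cands ((hY.natAbs_le (by norm_num)).trans (by norm_num))))
      exact (hl.resolve_left hY.2.1).resolve_left hY.2.2.1
    have m := mem X h
    have m' := mem X' h'
    simp only [List.mem_cons, List.not_mem_nil, or_false] at m m'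
    rcases m with rfl | rfl | rfl | rfl | rfl | rfl | rfl | rfl | rfl | rfl | rfl <;>
      rcases m' with rfl | rfl | rfl | rfl | rfl | rfl | rfl | rfl | rfl | rfl | rfl <;>
      norm_num at hE <;> omega
  · obtain rfl : Q = -9 := by rcases hQ with rfl | rfl <;> omega
    have val : ∀ Y, Valid 9 (-9) Y → Y = 27 ∨
        2 * (Y - -9) ^ 2 < 3 * (Y * (Y - 1)) ∧ Y * (Y - 1) ≤ 2 * (Y - -9) ^ 2 := fun Y hY => by
      by_cases hs : Y.natAbs ≤ 45
      · have hl := (of_decide_eq_true (List.all_eq_true.1 nine_check Y (hY.mem_cands hs))).resolve_left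
          hY.2.2.1
        rwa [sub_neg_eq_add]
      refine Or.inr ?_
      rw [sub_neg_eq_add]
      rcases le_or_gt Y 0 with hY0 | hY0
      · have h46 : Y ≤ -46 := by omega
        constructor <;> nlinarith [mul_le_mul_of_nonpos_left h46 (show Y ≤ 0 by omega)]
      · have h46 : 46 ≤ Y := by omega
        constructor <;> nlinarith [mul_le_mul_of_nonneg_left h46 (show 0 ≤ Y by omega)]
    rcases val X h with rfl | hX
    · rcases val X' h' with rfl | hX'
      · norm_num at hE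
        omega
      · exact gen hX'.1 (by norm_num)
    · rcases val X' h' with rfl | hX'
      · norm_num at hE hX
        -- `k φ(27) ≤ 2` leaves `k = 3`, whose quadratic has no integral root
        obtain rfl : k = 3 := by
          by_contra h3
          have : (5 : ℤ) ≤ k := by omega
          nlinarith
        norm_num at hE
        have hlo : -49 ≤ X := by nlinarith
        have hhi : X ≤ 0 := by nlinarith
        interval_cases X <;> omega
      · exact gen hX'.1 hX.2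

end Cfsg.Agent.SDKeystone
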